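set_option autoImplicit false
namespace Cfsg.Agent.Lib.Helper6.TCD.S82H
noncomputable def NC (i : Nat) : Nat := Nat.land (Nat.shiftRight 0x8001bc00000000000000030006e0000000000000000c001b400000000000000040006c00000000000000014001ac00000000000000060006a0000000000000001c001a40000000000000006000690000000000000000c001a00000000000000004000660000000000000001000194000000000000000500064000000000000000180018c0000000000000007000620000000000000001400188000000000000000400060000000000000000100017c00000000000000050005e000000000000000140017400000000000000060005c0000000000000001c0016c00000000000000040005b0000000000000001000168000000000000000500059000000000000000140015c00000000000000060005600000000000000018001540000000000000007000540000000000000000c001500000000000000005000520000000000000001800144000000000000000500050000000000000000180013c00000000000000070004e0000000000000001c0013400000000000000020004d000000000000000140012c00000000000000060004a0000000000000001c001240000000000000006000470000000000000001c001180000000000000002000460000000000000000400118000000000000000500045000000000000000180010c00000000000000070004200000000000000004001080000000000000006000410000000000000001c0010000000000000000030004000000000000000018000f800000000000000060003d0000000000000001c000f000000000000000030003c0000000000000001c000e800000000000000040003a00000000000000018000e00000000000000007000370000000000000001c000d40000000000000004000350000000000000001c000d000000000000000050003400000000000000018000c800000000000000070003000000000000000010000c000000000000000070002f00000000000000014000bc00000000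000000060002e00000000000000018000b400000000000000070002b0000000000000001c000a800000000000000050002a00000000000000018000a40000000000000000000290000000000000001c0009c00000000000000070002500000000000000014000940000000000000006000240000000000000000800090000000000000000700022000000000000000140008800000000000000070002100000000000000018000800000000000000003000200000000000000001c0007800000000000000060001d000000000000000180007000000000000000040001c0000000000000001c0006800000000000000060001900000000000000010000640000000000000005000180000000000000001c0005800000000000000060001500000000000000014000500000000000000001000140000000000000001c0004c0000000000000006000120000000000000001400044000000000000000300011000000000000000180004000000000000000050000f000000000000000100003800000000000000050000d000000000000000100003000000000000000020000c000000000000000100002c00000000000000030000a0000000000000000c00020000000000000000000008000000000000000000001c00000000000000020000600000000000000008000140000000000000001000050000000000000000c0001000000000000000040000300000000000000014000080000000000000006000010000000000000001c00000000000000000000000000 (Nat.mul 86 (Nat.land i 511))) 77371252455336267181195263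
end Cfsg.Agent.Lib.Helper6.TCD.S82H
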